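import Mathlib

/-!
# Henselianity of the localization at a prime with a single prime above it in a separable closure
-/

set_option linter.style.haveILetI false

namespace Groth.Agent.H4Decomp

universe u

open Polynomial

variable {R K Ks : Type u} [CommRing R] [IsDomain R] [Field K] [Algebra R K] [IsFractionRing R K]
  [Field Ks] [Algebra K Ks] [IsSepClosure K Ks] [Algebra R Ks] [IsScalarTower R K Ks]

omit [IsDomain R] [IsFractionRing R K] in
/-- Galois conjugates over a fixed field are conjugates under the group. -/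
theorem exists_apply_eq (H : Subgroup (Ks ≃ₐ[K] Ks)) (σ : Ks ≃ₐ[K] Ks)
    (hσ : ∀ z ∈ IntermediateField.fixedField H, σ z = z) (x : Ks) :
    ∃ h ∈ H, σ x = h x := by
  classical
  haveI : IsGalois K Ks := IsSepClosure.isGalois
  let O : Set Ks := (fun h : H => (h : Ks ≃ₐ[K] Ks) x) '' Set.univ
  have hfin : O.Finite := by
    refine Set.Finite.subset ((minpoly K x).rootSet_finite Ks) ?_
    rintro _ ⟨h, -, rfl⟩
    rw [Polynomial.mem_rootSet]
    refine ⟨minpoly.ne_zero (Algebra.IsIntegral.isIntegral x), ?_⟩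
    rw [Polynomial.aeval_algHom_apply, minpoly.aeval, map_zero]
  let P : Ks[X] := ∏ y ∈ hfin.toFinset, (X - C y)
  have hmap : ∀ h ∈ H, P.map (h : Ks →+* Ks) = P := by
    intro h hh
    rw [Polynomial.map_prod]
    refine Finset.prod_nbij (fun y => h y) (fun y hy => ?_) (fun a _ b _ e => h.injective e)
      (fun y hy => ?_) (fun y _ => by simp)
    · rw [Set.Finite.mem_toFinset] at hy ⊢
      obtain ⟨g, -, rfl⟩ := hy
      exact ⟨⟨h, hh⟩ * g, trivial, rfl⟩
    · rw [Finset.mem_coe, Set.Finite.mem_toFinset] at hy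
      obtain ⟨g, -, rfl⟩ := hy
      refine ⟨(((⟨h, hh⟩ : H)⁻¹ * g : H) : Ks ≃ₐ[K] Ks) x, ?_, ?_⟩
      · rw [Finset.mem_coe, Set.Finite.mem_toFinset]
        exact ⟨_, trivial, rfl⟩
      · show h (h.symm _) = _
        rw [AlgEquiv.apply_symm_apply]
        rfl
  have hcoeff : ∀ n, σ (P.coeff n) = P.coeff n := fun n => hσ _ (by
    rw [IntermediateField.mem_fixedField_iff]
    intro h hh
    conv_rhs => rw [← hmap h hh, Polynomial.coeff_map]
    rfl)
  have hP : P.map (σ : Ks →+* Ks) = P := Polynomial.ext fun n => by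
    rw [Polynomial.coeff_map]; exact hcoeff n
  have hroot : P.eval (σ x) = 0 := by
    rw [← hP, show σ x = (σ : Ks →+* Ks) x from rfl, Polynomial.eval_map_apply, eval_prod,
      Finset.prod_eq_zero (i := x), map_zero]
    · rw [Set.Finite.mem_toFinset]
      exact ⟨1, trivial, rfl⟩
    · simp
  rw [eval_prod, Finset.prod_eq_zero_iff] at hroot
  obtain ⟨y, hy, hy0⟩ := hroot
  rw [Set.Finite.mem_toFinset] at hy
  obtain ⟨g, -, rfl⟩ := hy
  rw [eval_sub, eval_X, eval_C, sub_eq_zero] at hy0
  exact ⟨g, g.2, hy0⟩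

/-- Main criterion. -/
theorem henselianLocalRing (Ps : Ideal (integralClosure R Ks)) [Ps.IsMaximal]
    (H : Subgroup (Ks ≃ₐ[K] Ks))
    (hH : ∀ σ ∈ H, ∀ x : integralClosure R Ks, ∃ h : σ (x : Ks) ∈ integralClosure R Ks,
      x ∈ Ps ↔ (⟨σ (x : Ks), h⟩ : integralClosure R Ks) ∈ Ps)
    (L : IntermediateField K Ks) (hL : L = IntermediateField.fixedField H)
    (Q : Ideal (integralClosure R L)) [Q.IsPrime]
    (hQ : ∀ y : integralClosure R L, y ∈ Q ↔
      ∃ x : integralClosure R Ks, x ∈ Ps ∧ (x : Ks) = ((y : L) : Ks)) :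
    HenselianLocalRing (Localization.AtPrime Q) := by
  classical
  haveI : IsGalois K Ks := IsSepClosure.isGalois
  haveI : IsSepClosed Ks := IsSepClosure.sep_closed K
  haveI : IsScalarTower R K L := inferInstance
  haveI : Algebra.IsAlgebraic R Ks := ⟨fun x =>
    (IsFractionRing.isAlgebraic_iff R K Ks).mpr (Algebra.IsAlgebraic.isAlgebraic x)⟩
  haveI : Algebra.IsAlgebraic R L := ⟨fun x =>
    (IsFractionRing.isAlgebraic_iff R K L).mpr (Algebra.IsAlgebraic.isAlgebraic x)⟩
  have hinjL : ∀ r : R, algebraMap R L r = 0 → r = 0 := fun r hr => by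
    rw [IsScalarTower.algebraMap_apply R K L, map_eq_zero,
      map_eq_zero_iff _ (IsFractionRing.injective R K)] at hr
    exact hr
  have hinjKs : ∀ r : R, algebraMap R Ks r = 0 → r = 0 := fun r hr => by
    rw [IsScalarTower.algebraMap_apply R K Ks, map_eq_zero,
      map_eq_zero_iff _ (IsFractionRing.injective R K)] at hr
    exact hr
  let RL := integralClosure R L
  let Rs := integralClosure R Ks
  haveI : IsFractionRing RL L := integralClosure.isFractionRing_of_algebraic (A := R) (L := L) hinjL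
  haveI : IsFractionRing Rs Ks := integralClosure.isFractionRing_of_algebraic (A := R) (L := Ks) hinjKs
  haveI : IsIntegrallyClosed RL := (isIntegrallyClosed_iff_isIntegrallyClosedIn L).mpr inferInstance
  haveI : IsIntegrallyClosed Rs := (isIntegrallyClosed_iff_isIntegrallyClosedIn Ks).mpr inferInstance
  let V := Localization.AtPrime Q
  let W := Localization.AtPrime Ps
  haveI : IsIntegrallyClosed V :=
    isIntegrallyClosed_of_isLocalization V Q.primeCompl Q.primeCompl_le_nonZeroDivisors
  haveI : IsIntegrallyClosed W :=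
    isIntegrallyClosed_of_isLocalization W Ps.primeCompl Ps.primeCompl_le_nonZeroDivisors
  let ιV : V →+* L := IsLocalization.lift (M := Q.primeCompl) (g := algebraMap RL L) fun s =>
    IsUnit.mk0 _ ((map_ne_zero_iff _ (IsFractionRing.injective RL L)).mpr
      (nonZeroDivisors.ne_zero (Q.primeCompl_le_nonZeroDivisors s.2)))
  letI : Algebra V L := ιV.toAlgebra
  haveI : IsScalarTower RL V L :=
    IsScalarTower.of_algebraMap_eq fun x => (IsLocalization.lift_eq _ x).symm
  haveI : IsFractionRing V L :=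
    IsFractionRing.isFractionRing_of_isDomain_of_isLocalization Q.primeCompl V L
  let ιW : W →+* Ks := IsLocalization.lift (M := Ps.primeCompl) (g := algebraMap Rs Ks) fun s =>
    IsUnit.mk0 _ ((map_ne_zero_iff _ (IsFractionRing.injective Rs Ks)).mpr
      (nonZeroDivisors.ne_zero (Ps.primeCompl_le_nonZeroDivisors s.2)))
  letI : Algebra W Ks := ιW.toAlgebra
  haveI : IsScalarTower Rs W Ks :=
    IsScalarTower.of_algebraMap_eq fun x => (IsLocalization.lift_eq _ x).symm
  haveI : IsFractionRing W Ks :=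
    IsFractionRing.isFractionRing_of_isDomain_of_isLocalization Ps.primeCompl W Ks
  let j : RL →+* Rs :=
    ((L.val.restrictScalars R).comp RL.val).toRingHom.codRestrict Rs.toSubring fun y =>
      y.2.map (L.val.restrictScalars R)
  have hjQ : Q = Ps.comap j := by
    ext y
    rw [hQ, Ideal.mem_comap]
    exact ⟨fun ⟨x, hx, he⟩ => by convert hx; exact Subtype.ext he.symm, fun h => ⟨j y, h, rfl⟩⟩
  let jV : V →+* W := Localization.localRingHom Q Ps j hjQ
  haveI : IsLocalHom jV := Localization.isLocalHom_localRingHom Q Ps j hjQ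
  have hcomm : ∀ v : V, ιW (jV v) = algebraMap L Ks (ιV v) := by
    refine RingHom.congr_fun (f := ιW.comp jV) (g := (algebraMap L Ks).comp ιV)
      (IsLocalization.ringHom_ext Q.primeCompl (RingHom.ext fun y => ?_))
    show ιW (jV (algebraMap RL V y)) = algebraMap L Ks (ιV (algebraMap RL V y))
    rw [Localization.localRingHom_to_map, IsLocalization.lift_eq, IsLocalization.lift_eq]
    rfl
  -- invariance of the maximal ideal of `W`
  have hinv : ∀ σ : Ks ≃ₐ[L] Ks, ∀ w ∈ IsLocalRing.maximalIdeal W,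
      ∃ w' ∈ IsLocalRing.maximalIdeal W, ιW w' = σ (ιW w) := by
    intro σ w hw
    have hG : ∀ x : Rs, ∃ h : σ (x : Ks) ∈ Rs, x ∈ Ps ↔ (⟨σ (x : Ks), h⟩ : Rs) ∈ Ps := by
      intro x
      obtain ⟨g, hg, he⟩ := exists_apply_eq H (σ.restrictScalars K) (fun z hz => by
        exact σ.commutes ⟨z, hL ▸ hz⟩) (x : Ks)
      obtain ⟨h, hiff⟩ := hH g hg x
      have he' : σ (x : Ks) = g (x : Ks) := he
      exact ⟨he' ▸ h, by simpa only [he'] using hiff⟩
    obtain ⟨⟨a, s⟩, rfl⟩ := IsLocalization.mk'_surjective Ps.primeCompl w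
    rw [IsLocalization.AtPrime.mk'_mem_maximal_iff W Ps] at hw
    obtain ⟨h1, h1'⟩ := hG a
    obtain ⟨h2, h2'⟩ := hG s
    refine ⟨IsLocalization.mk' W (⟨σ (a : Ks), h1⟩ : Rs) (⟨⟨σ (s : Rs), h2⟩, fun h => s.2 (h2'.mpr h)⟩ : Ps.primeCompl),
      (IsLocalization.AtPrime.mk'_mem_maximal_iff W Ps _ _).mpr (h1'.mp hw), ?_⟩
    rw [IsLocalization.lift_mk'_spec]
    have hs0 : (algebraMap Rs Ks) (s : Rs) ≠ 0 := (map_ne_zero_iff _ (IsFractionRing.injective Rs Ks)).mpr
      (nonZeroDivisors.ne_zero (Ps.primeCompl_le_nonZeroDivisors s.2))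
    show σ (a : Ks) = σ (s : Rs) * σ (ιW (IsLocalization.mk' W a s))
    rw [← map_mul]
    congr 1
    exact (IsLocalization.lift_mk'_spec (S := W) (M := Ps.primeCompl) (g := algebraMap Rs Ks) (fun s => IsUnit.mk0 _ ((map_ne_zero_iff _ (IsFractionRing.injective Rs Ks)).mpr (nonZeroDivisors.ne_zero (Ps.primeCompl_le_nonZeroDivisors s.2)))) a (ιW (IsLocalization.mk' W a s)) s).mp rfl
  refine ⟨fun f hf a₀ hroot hder => ?_⟩
  -- a minimal monic factor
  have hex : ∃ n, ∃ g h : V[X], g.Monic ∧ f = g * h ∧ g.eval a₀ ∈ IsLocalRing.maximalIdeal V ∧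
      g.natDegree = n := ⟨_, f, 1, hf, (mul_one f).symm, hroot, rfl⟩
  obtain ⟨g, h, hg, hgh, hga, hgn⟩ := Nat.find_spec hex
  have hg' : IsUnit (g.derivative.eval a₀) := by
    by_contra hn
    rw [hgh, derivative_mul, eval_add, eval_mul, eval_mul] at hder
    exact (IsLocalRing.mem_maximalIdeal _).mp (add_mem (Ideal.mul_mem_right _ _
      ((IsLocalRing.mem_maximalIdeal _).mpr hn)) (Ideal.mul_mem_right _ _ hga)) hder
  let gL : L[X] := g.map ιV
  have hgLm : gL.Monic := hg.map _
  have hdeg1 : gL.natDegree ≠ 0 := by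
    intro h0
    rw [(hg.natDegree_map ιV)] at h0
    rw [hg.natDegree_eq_zero.mp h0, eval_one] at hga
    exact (IsLocalRing.maximalIdeal.isMaximal V).ne_top ((Ideal.eq_top_iff_one _).mpr hga)
  have hirr : Irreducible gL := by
    rw [hgLm.irreducible_iff_natDegree]
    refine ⟨fun h => hdeg1 (by rw [h, natDegree_one]), fun p q hp hq hpq => ?_⟩
    by_contra! hne
    obtain ⟨p', hp'⟩ := IsIntegrallyClosed.eq_map_mul_C_of_dvd L hg (hpq ▸ dvd_mul_right p q)
    obtain ⟨q', hq'⟩ := IsIntegrallyClosed.eq_map_mul_C_of_dvd L hg (hpq ▸ dvd_mul_left q p)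
    rw [hp.leadingCoeff, C_1, mul_one] at hp'
    rw [hq.leadingCoeff, C_1, mul_one] at hq'
    have hinj : Function.Injective ιV := IsFractionRing.injective V L
    have hp'm : p'.Monic := monic_of_injective hinj (hp' ▸ hp)
    have hq'm : q'.Monic := monic_of_injective hinj (hq' ▸ hq)
    have hpq' : g = p' * q' := by
      refine map_injective _ hinj ?_
      rw [Polynomial.map_mul, show p'.map ιV = p from hp', show q'.map ιV = q from hq']
      exact hpq.symm
    have hd : g.natDegree = p'.natDegree + q'.natDegree := by rw [hpq', hp'm.natDegree_mul hq'm]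
    have hp0 : p'.natDegree ≠ 0 := fun h0 => hne.1 (by rw [← hp']; exact (hp'm.natDegree_map _).trans h0)
    have hq0 : q'.natDegree ≠ 0 := fun h0 => hne.2 (by rw [← hq']; exact (hq'm.natDegree_map _).trans h0)
    rw [hpq', eval_mul] at hga
    rcases (IsLocalRing.maximalIdeal.isMaximal V).isPrime.mem_or_mem hga with hm | hm
    · exact Nat.find_min hex (m := p'.natDegree) (by omega)
        ⟨p', q' * h, hp'm, by rw [hgh, hpq', mul_assoc], hm, rfl⟩
    · exact Nat.find_min hex (m := q'.natDegree) (by omega)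
        ⟨q', p' * h, hq'm, by rw [hgh, hpq', mul_comm p', mul_assoc], hm, rfl⟩
  have hsep : gL.Separable := by
    rw [separable_iff_derivative_ne_zero hirr, derivative_map]
    intro h0
    have : g.derivative = 0 := map_injective _ (IsFractionRing.injective V L)
      (by rw [Polynomial.map_zero]; exact h0)
    rw [this, eval_zero] at hg'
    exact not_isUnit_zero hg'
  let gW : W[X] := g.map jV
  have hmaps : gW.map ιW = gL.map (algebraMap L Ks) := by
    rw [Polynomial.map_map, Polynomial.map_map]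
    exact congrArg (g.map ·) (RingHom.ext hcomm)
  have hsplit : (gL.map (algebraMap L Ks)).Splits := IsSepClosed.splits_codomain gL hsep
  -- roots lie in `W`
  have hrootW : ∀ r ∈ (gL.map (algebraMap L Ks)).roots, ∃ w : W, ιW w = r := by
    intro r hr
    refine IsIntegrallyClosed.algebraMap_eq_of_integral ⟨gW, hg.map _, ?_⟩
    rw [← Polynomial.eval_map, show algebraMap W Ks = ιW from rfl, hmaps]
    exact (mem_roots ((hgLm.map _).ne_zero)).mp hr
  choose w hw using hrootW
  have hprod : gW = (((gL.map (algebraMap L Ks)).roots.attach.map fun r => X - C (w r.1 r.2))).prod := by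
    refine map_injective ιW (IsFractionRing.injective W Ks) ?_
    rw [Polynomial.map_multiset_prod, Multiset.map_map, hmaps]
    conv_lhs => rw [hsplit.eq_prod_roots_of_monic (hgLm.map _), ← Multiset.attach_map_val
      ((gL.map (algebraMap L Ks)).roots), Multiset.map_map]
    refine congrArg Multiset.prod (Multiset.map_congr rfl fun r _ => ?_)
    simp [hw]
  let a := jV a₀
  have hroot_a : ∀ r (hr : r ∈ (gL.map (algebraMap L Ks)).roots), a - w r hr ∈ IsLocalRing.maximalIdeal W := by
    have h1 : gW.eval a ∈ IsLocalRing.maximalIdeal W := by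
      rw [eval_map_apply]
      exact map_nonunit jV _ ((IsLocalRing.mem_maximalIdeal _).mp hga)
    rw [hprod, eval_multiset_prod, Multiset.map_map] at h1
    obtain ⟨⟨r₀, hr₀⟩, hx₀⟩ : ∃ r : {x // x ∈ (gL.map (algebraMap L Ks)).roots}, a - w r.1 r.2 ∈
        IsLocalRing.maximalIdeal W := by
      by_contra! hcon
      refine (IsLocalRing.mem_maximalIdeal _).mp h1 ?_
      refine Submonoid.multiset_prod_mem (IsUnit.submonoid W) _ fun z hz => ?_
      obtain ⟨r, -, rfl⟩ := Multiset.mem_map.mp hz
      have := IsLocalRing.notMem_maximalIdeal.mp (hcon r)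
      show IsUnit _
      simpa using this
    intro r hr
    have hr0' := (mem_roots ((hgLm.map _).ne_zero)).mp hr₀
    have hr' := (mem_roots ((hgLm.map _).ne_zero)).mp hr
    rw [IsRoot, eval_map, ← aeval_def] at hr0' hr'
    haveI : Normal L Ks := inferInstance
    obtain ⟨σ, hσ⟩ : ∃ σ : Ks ≃ₐ[L] Ks, σ r₀ = r :=
      (Normal.minpoly_eq_iff_mem_orbit Ks).mp
        ((minpoly.eq_of_irreducible_of_monic hirr hr' hgLm).symm.trans
          (minpoly.eq_of_irreducible_of_monic hirr hr0' hgLm))
    obtain ⟨z, hz, hze⟩ := hinv σ _ hx₀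
    have : ιW (a - w r hr) = ιW z := by
      rw [hze, map_sub, map_sub, hw, hw, show ιW a = algebraMap L Ks (ιV a₀) from hcomm a₀,
        map_sub, AlgEquiv.commutes, hσ]
    rw [IsFractionRing.injective W Ks this]
    exact hz
  -- the factor is linear
  have hone : gL.natDegree = 1 := by
    by_contra hne
    have hcard : 2 ≤ Multiset.card (gL.map (algebraMap L Ks)).roots.attach := by
      rw [Multiset.card_attach, ← hsplit.natDegree_eq_card_roots, natDegree_map]
      omega
    obtain ⟨s, hs⟩ : ∃ s, (gL.map (algebraMap L Ks)).roots.attach = s := ⟨_, rfl⟩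
    rw [hs] at hcard hprod
    obtain ⟨r₁, hr₁⟩ := Multiset.card_pos_iff_exists_mem.mp (show 0 < Multiset.card s by omega)
    obtain ⟨s₁, rfl⟩ := Multiset.exists_cons_of_mem hr₁
    rw [Multiset.card_cons] at hcard
    obtain ⟨r₂, hr₂⟩ := Multiset.card_pos_iff_exists_mem.mp (show 0 < Multiset.card s₁ by omega)
    obtain ⟨s₂, rfl⟩ := Multiset.exists_cons_of_mem hr₂
    rw [Multiset.map_cons, Multiset.map_cons, Multiset.prod_cons, Multiset.prod_cons] at hprod
    have hu : IsUnit (gW.derivative.eval a) := by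
      rw [derivative_map, eval_map_apply]; exact hg'.map jV
    rw [hprod] at hu
    simp only [derivative_mul, eval_add, eval_mul, eval_sub, eval_X, eval_C] at hu
    refine (IsLocalRing.mem_maximalIdeal _).mp ?_ hu
    exact add_mem (Ideal.mul_mem_left _ _ (Ideal.mul_mem_right _ _ (hroot_a _ r₂.2)))
      (Ideal.mul_mem_right _ _ (hroot_a _ r₁.2))
  rw [hg.natDegree_map] at hone
  have hg2 : g = X + C (g.coeff 0) := by
    conv_lhs => rw [eq_X_add_C_of_natDegree_le_one (le_of_eq hone)]
    rw [show g.coeff 1 = 1 by rw [← hone]; exact hg.leadingCoeff, C_1, one_mul]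
  refine ⟨-g.coeff 0, ?_, ?_⟩
  · have h0 : g.eval (-g.coeff 0) = 0 :=
      (congrArg (Polynomial.eval (-g.coeff 0)) hg2).trans (by rw [eval_add, eval_X, eval_C]; exact neg_add_cancel _)
    rw [IsRoot, hgh, eval_mul, h0, zero_mul]
  · rw [hg2, eval_add, eval_X, eval_C] at hga
    have := neg_mem hga
    rwa [neg_add_rev, ← sub_eq_add_neg] at this

end Groth.Agent.H4Decomp
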